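import Groth.Agent.MonoQcLib.Scheme
import Groth.Agent.AlgStLib.UnivTop
import Groth.Agent.AlgStLib.LocQ6
import Groth.Agent.AlgSpLib.MonoRep

/-!
# Quasi-compactness of monomorphisms of stacks from dense lifts
-/

set_option autoImplicit false
set_option backward.isDefEq.respectTransparency false
set_option backward.isDefEq.respectTransparency.types false

universe u

open CategoryTheory CategoryTheory.Limits AlgebraicGeometry Opposite AlgSp FibCat FibLib AlgSpLib AlgStLib Topology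

noncomputable section

namespace MonoQcLib

variable {S : Scheme.{u}} {𝒳 𝒴 : AlgSt.Cat S}

/-- Morphisms of schemes inducing isomorphic functors are equal. -/
lemma eq_of_iso_overMap {U V : Over S} {j j' : U ⟶ V} (α : AlgSt.overMap j ≅ AlgSt.overMap j') : j = j' := by
  refine (yon S).map_injective (ObjectProperty.hom_ext _ (eq_of_iso_ofPshMap ?_))
  exact whiskerRightIso' (whiskerLeftIso' (AlgSt.toOverCat U) α) (AlgSt.ofOverCat V)

/-- A scheme representing a monomorphism over a scheme chart. -/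
structure RepChart (f : 𝒴 ⥤ᵇ 𝒳) {U : Over S} (x : overCat U ⥤ᵇ 𝒳) where
  W : Over S
  E : overCat W ⥤ᵇ fp x f
  hE : IsEquivOver E
  j : W ⟶ U
  β : Nonempty (BasedFunctor.comp E (FibCat.fpFst x f) ≅ AlgSt.overMap j)
  mono : Mono j.left
  lfp : LocallyOfFinitePresentation j.left
  H : Sp S
  a : H ⟶ (yon S).obj U
  hH : IsAlgSpace H
  along : Along (BasedFunctor.comp (AlgSt.toOverCat U) x) f a.hom
  i : (yon S).obj W ≅ H
  hi : i.hom ≫ a = (yon S).map j

theorem exists_repChart [IsFibGrpd 𝒳.p] [IsFibGrpd 𝒴.p] {f : 𝒴 ⥤ᵇ 𝒳} (ha : AlgSt.IsMono f)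
    (hlfp : AlgSt.RepByAlgSpWith (LocP @LocallyOfFinitePresentation) f) {U : Over S} (x : overCat U ⥤ᵇ 𝒳) :
    Nonempty (RepChart f x) := by
  haveI := full_id 𝒳
  haveI := faithful_id 𝒳
  obtain ⟨H, a, hH, hal, hm⟩ := (repByAlgSpWith_iff _ f).mp ha U (BasedFunctor.comp (AlgSt.toOverCat U) x)
  haveI : Mono a := hm
  have hU := IsAlgSpace.yon_obj (S := S) U
  have hl : LocP @LocallyOfFinitePresentation a := prop_of_along good_lfp.bc.precomp_iso hlfp hal
  have hrep : Representable a := representable_of_mono_lft hH hU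
    (locP_mono (fun _ _ g (_ : LocallyOfFinitePresentation g) => (inferInstance : LocallyOfFiniteType g)) hl)
  obtain ⟨W, j, fst, sq⟩ := hrep (𝟙 ((yon S).obj U))
  have : IsIso fst := sq.isIso_fst_of_isIso
  have hj : fst ≫ a = (yon S).map j := by simpa using sq.w
  have hl' : LocallyOfFinitePresentation j.left :=
    (repWith_of_locP hU hrep hl).property (𝟙 _) fst j sq
  have hm' : Mono j.left := (repWith_mono_of_mono hrep).property (𝟙 _) fst j sq
  obtain ⟨e, he, ⟨β⟩⟩ := hal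
  let M : fp (BasedFunctor.comp (AlgSt.toOverCat U) x) f ⥤ᵇ fp x f :=
    fpMap (a := AlgSt.toOverCat U) (b := BasedFunctor.id _) (c := BasedFunctor.id _)
      (F := x) (G := f) (F' := BasedFunctor.comp (AlgSt.toOverCat U) x) (G' := f) (Iso.refl _) (Iso.refl _)
  let E := BasedFunctor.comp (BasedFunctor.comp (AlgSt.ofOverCat W) (AlgSt.ofSpMap fst)) (BasedFunctor.comp e M)
  haveI : IsIso fst.hom := (sheafToPresheaf _ _).map_isIso fst
  have hE : IsEquivOver E := isEquivOver_comp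
    (isEquivOver_comp (isEquivOver_ofOverCat W) (isEquivOver_ofPshMap (asIso fst.hom)))
    (isEquivOver_comp he (isEquivOver_fpMap _ _ (isEquivOver_toOverCat U) (isEquivOver_id _)))
  refine ⟨⟨W, E, hE, j, ⟨?_⟩, hm', hl', H, a, hH, ⟨e, he, ⟨β⟩⟩, asIso fst, hj⟩⟩
  refine whiskerRightIso' (whiskerLeftIso' (BasedFunctor.comp (AlgSt.ofOverCat W) (AlgSt.ofSpMap fst)) β)
    (AlgSt.toOverCat U) ≪≫ eqToIso ?_
  have : AlgSt.ofSpMap ((yon S).map j) = BasedFunctor.comp (AlgSt.ofSpMap fst) (AlgSt.ofSpMap a) := by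
    rw [← hj]; rfl
  change BasedFunctor.comp (AlgSt.ofOverCat W)
    (BasedFunctor.comp (BasedFunctor.comp (AlgSt.ofSpMap fst) (AlgSt.ofSpMap a)) (AlgSt.toOverCat U)) = _
  rw [← this]
  rfl

/-- The hypothesis on dense lifts. -/
def StackDenseLift (f : 𝒴 ⥤ᵇ 𝒳) : Prop :=
  ∀ (A : Type u) [CommRing A] [IsDomain A] (sA : Spec (CommRingCat.of A) ⟶ S)
      (a : FibCat.overCat (Over.mk sA) ⥤ᵇ 𝒳) (D : Set ↥(Spec (CommRingCat.of A))), Dense D →
      (∀ p ∈ D, ∃ yp : FibCat.overCat (Over.mk ((Spec (CommRingCat.of A)).fromSpecResidueField p ≫ sA)) ⥤ᵇ 𝒴,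
          Nonempty (BasedFunctor.comp yp f ≅ BasedFunctor.comp (AlgSt.overMap (Over.homMk ((Spec (CommRingCat.of A)).fromSpecResidueField p) rfl : Over.mk (((Spec (CommRingCat.of A)).fromSpecResidueField p) ≫ sA) ⟶ Over.mk sA)) a)) →
      ∃ U : (Spec (CommRingCat.of A)).Opens, (U : Set ↥(Spec (CommRingCat.of A))).Nonempty ∧
        ∃ yU : FibCat.overCat (Over.mk (U.ι ≫ sA)) ⥤ᵇ 𝒴,
          Nonempty (BasedFunctor.comp yU f ≅ BasedFunctor.comp (AlgSt.overMap (Over.homMk (U.ι) rfl : Over.mk ((U.ι) ≫ sA) ⟶ Over.mk sA)) a)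

namespace RepChart

variable {f : 𝒴 ⥤ᵇ 𝒳} {U : Over S} {x : overCat U ⥤ᵇ 𝒳} (C : RepChart f x)

/-- The functor from the representing scheme to the source. -/
def K : overCat C.W ⥤ᵇ 𝒴 := BasedFunctor.comp C.E (FibCat.fpSnd x f)

/-- It lies over the chart. -/
theorem K_comp : Nonempty (BasedFunctor.comp C.K f ≅ BasedFunctor.comp (AlgSt.overMap C.j) x) :=
  C.β.map fun β => whiskerLeftIso' C.E (fpIso x f).symm ≪≫ whiskerRightIso' β x

/-- Lifts from a morphism to the representing scheme. -/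
theorem exists_lift_of_hom {T : Over S} (σ : T ⟶ C.W) :
    ∃ y : overCat T ⥤ᵇ 𝒴, Nonempty (BasedFunctor.comp y f ≅ BasedFunctor.comp (AlgSt.overMap (σ ≫ C.j)) x) :=
  by
  obtain ⟨κ⟩ := C.K_comp
  refine ⟨BasedFunctor.comp (AlgSt.overMap σ) C.K, ⟨?_ ≪≫ eqToIso (by rw [AlgStLib.overMap_comp])⟩⟩
  exact whiskerLeftIso' (AlgSt.overMap σ) κ

/-- A lift gives a morphism to the representing scheme. -/
theorem exists_hom_of_lift [IsFibGrpd 𝒳.p] [IsFibGrpd 𝒴.p] {T : Over S} (t : T ⟶ U) (y : overCat T ⥤ᵇ 𝒴)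
    (α : BasedFunctor.comp y f ≅ BasedFunctor.comp (AlgSt.overMap t) x) : ∃ σ : T ⟶ C.W, σ ≫ C.j = t := by
  haveI := AlgStLib.isFibGrpd_overCat T
  haveI := AlgStLib.isFibGrpd_overCat U
  haveI := AlgStLib.isFibGrpd_overCat C.W
  haveI : IsFibGrpd (fp x f).p := isFibGrpd_fp
  obtain ⟨E', -, -, ⟨κ⟩⟩ := exists_inverse C.hE
  obtain ⟨β⟩ := C.β
  let L : overCat T ⥤ᵇ fp x f := fpLift (AlgSt.overMap t) y α.symm
  obtain ⟨σ, ⟨ε⟩⟩ := exists_iso_overMap (BasedFunctor.comp L E')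
  refine ⟨σ, eq_of_iso_overMap ?_⟩
  exact eqToIso (AlgStLib.overMap_comp σ C.j) ≪≫ whiskerLeftIso' (AlgSt.overMap σ) β.symm ≪≫
    whiskerRightIso' ε.symm (BasedFunctor.comp C.E (FibCat.fpFst x f)) ≪≫
    whiskerLeftIso' L (whiskerRightIso' κ (FibCat.fpFst x f))

end RepChart

theorem compactSpace_preimage [IsFibGrpd 𝒳.p] [IsFibGrpd 𝒴.p] {f : 𝒴 ⥤ᵇ 𝒳} (hc : StackDenseLift f) {U : Over S}
    {x : overCat U ⥤ᵇ 𝒳} (C : RepChart f x) [IsLocallyNoetherian U.left] (O : U.left.Opens) (hO : IsAffineOpen O) :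
    IsCompact (C.j.left ⁻¹' (O : Set U.left)) := by
  haveI : IsNoetherianRing Γ(U.left, O) := IsLocallyNoetherian.component_noetherian ⟨O, hO⟩
  haveI := C.mono
  haveI : Mono (C.j.left ∣_ O) := (MorphismProperty.monomorphisms Scheme.{u}).of_isPullback
    (isPullback_morphismRestrict C.j.left O).flip (MorphismProperty.monomorphisms.infer_property C.j.left)
  let j' := (C.j.left ∣_ O) ≫ hO.isoSpec.hom
  have hd : DenseLift j' := by
    intro A _ _ a D hD hl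
    let t₀ : Spec (CommRingCat.of A) ⟶ U.left := a ≫ hO.isoSpec.inv ≫ O.ι
    let sA : Spec (CommRingCat.of A) ⟶ S := t₀ ≫ U.hom
    let t : Over.mk sA ⟶ U := Over.homMk t₀ rfl
    obtain ⟨V, hV, yV, ⟨α⟩⟩ := hc A sA (BasedFunctor.comp (AlgSt.overMap t) x) D hD fun p hp => by
      obtain ⟨σ, hσ⟩ := hl p hp
      let ι : Over.mk ((Spec (CommRingCat.of A)).fromSpecResidueField p ≫ sA) ⟶ Over.mk sA :=
        Over.homMk ((Spec (CommRingCat.of A)).fromSpecResidueField p) rfl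
      have hσ' : (σ ≫ (C.j.left ⁻¹ᵁ O).ι) ≫ C.j.left = (Spec (CommRingCat.of A)).fromSpecResidueField p ≫ t₀ := by
        rw [Category.assoc, ← morphismRestrict_ι, ← Category.assoc,
          show σ ≫ (C.j.left ∣_ O) = (σ ≫ j') ≫ hO.isoSpec.inv by simp [j'], hσ]
        simp [t₀]
      let σo : Over.mk ((Spec (CommRingCat.of A)).fromSpecResidueField p ≫ sA) ⟶ C.W :=
        Over.homMk (σ ≫ (C.j.left ⁻¹ᵁ O).ι) (by
          change _ ≫ C.W.hom = _ ≫ t₀ ≫ U.hom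
          rw [← Over.w C.j]
          exact (Category.assoc _ _ _).symm.trans ((congrArg (· ≫ U.hom) hσ').trans (Category.assoc _ _ _)))
      have hσo : σo ≫ C.j = ι ≫ t := Over.OverMorphism.ext hσ'
      obtain ⟨y, ⟨α⟩⟩ := C.exists_lift_of_hom σo
      exact ⟨y, ⟨α ≪≫ eqToIso (by rw [hσo, AlgStLib.overMap_comp]; rfl)⟩⟩
    let ι : Over.mk (V.ι ≫ sA) ⟶ Over.mk sA := Over.homMk V.ι rfl
    obtain ⟨σ, hσ⟩ := C.exists_hom_of_lift (ι ≫ t) yV (α ≪≫ eqToIso (by rw [AlgStLib.overMap_comp]; rfl))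
    have hσ' : σ.left ≫ C.j.left = V.ι ≫ t₀ := congrArg CommaMorphism.left hσ
    have sq := isPullback_morphismRestrict C.j.left O
    have w : σ.left ≫ C.j.left = (V.ι ≫ a ≫ hO.isoSpec.inv) ≫ O.ι := by simp [hσ', t₀]
    exact ⟨V, hV, sq.flip.lift σ.left (V.ι ≫ a ≫ hO.isoSpec.inv) w, by
      simp only [j', IsPullback.lift_snd_assoc, Category.assoc, Iso.inv_hom_id, Category.comp_id]⟩
  have := (isCompact_univ_of_denseLift _ j' hd).image (C.j.left ⁻¹ᵁ O).ι.continuous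
  rwa [Set.image_univ, Scheme.Opens.range_ι] at this

theorem isQuasiCompactMor_of_denseLift (h𝒳 : AlgSt.IsAlgStack Scheme.fppfPrecoverage 𝒳)
    (h𝒴 : AlgSt.IsAlgStack Scheme.fppfPrecoverage 𝒴)
    (hnoeth : AlgSt.SmoothLocally (fun X => IsLocallyNoetherian X) 𝒳) {f : 𝒴 ⥤ᵇ 𝒳}
    (hrep : AlgSt.RepByAlgSp1 f) (hlfp : AlgSt.RepByAlgSpWith (LocP @LocallyOfFinitePresentation) f)
    (ha : AlgSt.IsMono f) (hc : StackDenseLift f) : AlgSt.RepByAlgSpWith IsQuasiCompactMor f := by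
  haveI := isFibGrpd_of_isAlgStack h𝒳
  haveI := isFibGrpd_of_isAlgStack h𝒴
  obtain ⟨U, x, hx, hxs⟩ := h𝒳.atlas
  haveI := hnoeth U x hx
  haveI := AlgStLib.isFibGrpd_overCat U
  obtain ⟨C⟩ := exists_repChart ha hlfp x
  haveI : QuasiCompact C.j.left :=
    quasiCompact_iff_forall_isAffineOpen.2 fun O hO => compactSpace_preimage hc C O hO
  let z := BasedFunctor.comp (AlgSt.toOverCat U) x
  haveI : IsFibGrpd (AlgSt.ofSch U).p := Stk.isFibGrpd_ofPsh _
  refine repByAlgSpWith_of_fppf_cover good_qc.bc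
    (isLocalOnBase_fppf_of_fpqc (isLocalOnBase_fpqc_isQuasiCompactMor S)) hrep
    (z := z) (repByAlgSpWith_toOverCat_comp (repByAlgSpWith_mono (fun _ _ _ _ _ h => locP_flat_of_smooth h) hx))
    (repByAlgSpWith_toOverCat_comp (repByAlgSpWith_mono (fun _ _ _ _ _ h => locP_lfp_of_smooth h) hx))
    (repByAlgSpWith_toOverCat_comp hxs) ?_
  obtain ⟨e, he, ⟨β⟩⟩ := C.along
  haveI : IsFibGrpd (fp z f).p := isFibGrpd_fp
  haveI : IsFibGrpd (AlgSt.ofSp C.H).p := Stk.isFibGrpd_ofPsh _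
  have hq : IsQuasiCompactMor C.a := by
    have h1 : IsQuasiCompactMor ((yon S).map C.j) :=
      isQuasiCompactMor_of_repWith (IsAlgSpace.yon_obj C.W) (IsAlgSpace.yon_obj U)
        ((repWith_yon_map_iff (P := (@QuasiCompact : MorphismProperty Scheme.{u})) C.j).2 inferInstance)
    have := good_qc.bc.precomp_iso C.i.symm _ (IsAlgSpace.yon_obj C.W) (IsAlgSpace.yon_obj U) h1
    rwa [show C.i.symm.hom ≫ (yon S).map C.j = C.a by rw [← C.hi]; simp] at this
  refine (repByAlgSpWith_square_iff (f := FibCat.fpFst z f) (f' := AlgSt.ofSpMap C.a) (a := e)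
    (b := BasedFunctor.id _) he (isEquivOver_id _) β.symm _).mpr ?_
  exact repByAlgSpWith_ofSpMap C.hH (IsAlgSpace.yon_obj U) _ fun Z ξ =>
    good_qc.bc C.hH (IsAlgSpace.yon_obj U)
      (isAlgSpace_pullback C.hH (IsAlgSpace.yon_obj Z) (IsAlgSpace.yon_obj U) _ ξ)
      (IsAlgSpace.yon_obj Z) _ ξ _ _ (IsPullback.of_hasPullback _ ξ) hq

end MonoQcLib
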