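import Groth.Agent.MonoQcLib.Scheme
import Groth.Agent.UCValLib.Noeth
import Mathlib.AlgebraicGeometry.ZariskisMainTheorem
import Mathlib.AlgebraicGeometry.Morphisms.Immersion

/-!
# Monomorphisms with lifts over discrete valuation rings are immersions
-/

set_option autoImplicit false
set_option backward.isDefEq.respectTransparency false
set_option backward.isDefEq.respectTransparency.types false

universe u

open CategoryTheory CategoryTheory.Limits AlgebraicGeometry Topology Polynomial

noncomputable section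

namespace MonoQcLib

/-- Over a discrete valuation ring, a lift exists once one exists at both points. -/
def DvrLiftBoth {W U : Scheme.{u}} (j : W ⟶ U) : Prop :=
  ∀ (A : Type u) [CommRing A] [IsDomain A] [IsDiscreteValuationRing A] (K : Type u) [Field K] [Algebra A K]
    [IsFractionRing A K] (a : Spec (CommRingCat.of A) ⟶ U),
    (∃ σ : Spec (CommRingCat.of K) ⟶ W, σ ≫ j = Spec.map (CommRingCat.ofHom (algebraMap A K)) ≫ a) →
    (∃ σ : Spec (CommRingCat.of (IsLocalRing.ResidueField A)) ⟶ W,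
      σ ≫ j = Spec.map (CommRingCat.ofHom (IsLocalRing.residue A)) ≫ a) →
    ∃ y : Spec (CommRingCat.of A) ⟶ W, y ≫ j = a

/-- The residue field of a prime is generated by the ring. -/
lemma closure_range_residueField {R : Type u} [CommRing R] (p : Ideal R) [p.IsPrime] :
    Subfield.closure (Set.range (algebraMap R p.ResidueField)) = ⊤ := by
  refine eq_top_iff.2 fun x _ => ?_
  obtain ⟨a, b, -, rfl⟩ := IsFractionRing.div_surjective (R ⧸ p) x
  obtain ⟨a, rfl⟩ := Ideal.Quotient.mk_surjective a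
  obtain ⟨b, rfl⟩ := Ideal.Quotient.mk_surjective b
  exact div_mem (Subfield.subset_closure ⟨a, rfl⟩) (Subfield.subset_closure ⟨b, rfl⟩)

/-- The points of the closure over the image are in the image. -/
theorem mem_range_of_dvrLiftBoth {R Q : CommRingCat.{u}} [IsNoetherianRing R] (φ : R ⟶ Q) {W : Scheme.{u}}
    (ι : W ⟶ Spec Q) (j : W ⟶ Spec R) (hj : ι ≫ Spec.map φ = j) [Mono j] (h : DvrLiftBoth j)
    (b : PrimeSpectrum Q) (ξ : W) (hξ : (ι ξ : PrimeSpectrum Q).asIdeal ≤ b.asIdeal) (w₀ : W)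
    (hw : PrimeSpectrum.comap φ.hom b = j w₀) : b = ι w₀ := by
  classical
  let p : PrimeSpectrum R := j ξ
  let L : Type u := p.asIdeal.ResidueField
  let g : Spec (CommRingCat.of L) ⟶ Spec R := Spec.map (CommRingCat.ofHom (algebraMap R L))
  have hgp : ∀ y, g y = p := fun y => PrimeSpectrum.ext (by
    change ((y : PrimeSpectrum L).asIdeal).comap (algebraMap R L) = p.asIdeal
    rw [(show (y : PrimeSpectrum L).asIdeal = ⊥ from (Ideal.eq_bot_or_top _).resolve_right (y : PrimeSpectrum L).isPrime.ne_top)]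
    exact Ideal.ker_algebraMap_residueField p.asIdeal)
  obtain ⟨σ, hσ⟩ := exists_lift_fromSpecResidueField j g ⟨ξ, (hgp _).symm⟩
  have hσξ : ∀ y, σ y = ξ := fun y => j.injective (by
    rw [← Scheme.Hom.comp_apply, hσ, hgp])
  obtain ⟨β, hβ⟩ := Spec.map_surjective (σ ≫ ι)
  have hβφ : φ ≫ β = CommRingCat.ofHom (algebraMap R L) := Spec.map_injective (by
    rw [Spec.map_comp, hβ, Category.assoc, hj, hσ])
  have hkerβ : RingHom.ker β.hom = (ι ξ : PrimeSpectrum Q).asIdeal := by
    have h1 : (Spec.map β) (IsLocalRing.closedPoint L) = ι ξ := by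
      rw [hβ, Scheme.Hom.comp_apply, hσξ]
    rw [← h1]
    change _ = (IsLocalRing.maximalIdeal L).comap β.hom
    rw [IsLocalRing.maximalIdeal_eq_bot, RingHom.ker_eq_comap_bot]
  refine PrimeSpectrum.ext (Ideal.ext fun c => ?_)
  let eQ : R[X] →+* Q := eval₂RingHom φ.hom c
  let α : R[X] →+* L := β.hom.comp eQ
  let P : Ideal R[X] := b.asIdeal.comap eQ
  have hkerP : RingHom.ker α ≤ P := fun x hx => hξ (by rw [← hkerβ]; exact hx)
  by_cases hne : ∃ x ∈ P, α x ≠ 0
  swap
  · push Not at hne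
    have hPeq : ∀ x, x ∈ P ↔ eQ x ∈ (ι ξ : PrimeSpectrum Q).asIdeal := fun x =>
      ⟨fun hx => by rw [← hkerβ]; exact hne x hx, fun hx => hξ hx⟩
    have hξw : ξ = w₀ := j.injective (by
      rw [← hj, Scheme.Hom.comp_apply]
      refine Eq.trans ?_ ((hw : _ = (j w₀ : PrimeSpectrum R)).trans (by rw [← hj]))
      refine PrimeSpectrum.ext (Ideal.ext fun r => ?_)
      have := (hPeq (C r)).symm
      simp [eQ, P] at this
      exact this)
    rw [← hξw]
    have := hPeq X
    simp [eQ, P] at this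
    exact this
  haveI : P.IsPrime := Ideal.IsPrime.comap _
  have hgen : Subfield.closure (Set.range α ∪ ↑(∅ : Finset L)) = ⊤ := by
    rw [eq_top_iff, ← closure_range_residueField p.asIdeal]
    refine Subfield.closure_mono ?_
    rintro _ ⟨r, rfl⟩
    refine Or.inl ⟨C r, ?_⟩
    have := ConcreteCategory.congr_hom hβφ r
    simpa [α, eQ] using this
  obtain ⟨D, hD, hDmem, hDval⟩ := AlgSpLib.exists_dvr_of_hom' α P hkerP hne ∅ hgen
  let ρ : R[X] →+* D := α.codRestrict D.toSubring hDmem
  have hρP : ∀ x, ρ x ∈ IsLocalRing.maximalIdeal D ↔ x ∈ P := fun x =>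
    (D.valuation_lt_one_iff (ρ x)).trans (hDval x)
  let a : Spec (CommRingCat.of D) ⟶ Spec R := Spec.map (CommRingCat.ofHom (ρ.comp C))
  have hcomp : Spec.map (CommRingCat.ofHom (algebraMap D L)) ≫ a = g := by
    rw [← Spec.map_comp]
    refine congrArg Spec.map (CommRingCat.hom_ext (RingHom.ext fun r => ?_))
    have := ConcreteCategory.congr_hom hβφ r
    change α (C r) = algebraMap R L r
    simpa [α, eQ] using this
  have hcl : a (IsLocalRing.closedPoint D) = j w₀ := by
    rw [← hw]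
    refine PrimeSpectrum.ext (Ideal.ext fun r => ?_)
    change ρ (C r) ∈ IsLocalRing.maximalIdeal D ↔ φ.hom r ∈ b.asIdeal
    rw [hρP]
    simp [P, eQ]
  obtain ⟨σk, hσk⟩ := exists_lift_fromSpecResidueField j
    (Spec.map (CommRingCat.ofHom (IsLocalRing.residue D)) ≫ a) ⟨w₀, by
      rw [Scheme.Hom.comp_apply, ← hcl]
      exact congrArg a (IsLocalRing.comap_closedPoint (IsLocalRing.residue D)).symm⟩
  obtain ⟨y, hy⟩ := h D L a ⟨σ, by rw [hσ, hcomp]⟩ ⟨σk, hσk⟩
  obtain ⟨η, hη⟩ := Spec.map_surjective (y ≫ ι)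
  have hyK : Spec.map (CommRingCat.ofHom (algebraMap D L)) ≫ y = σ := by
    rw [← cancel_mono j, Category.assoc, hy, hcomp, hσ]
  have hηβ : η ≫ CommRingCat.ofHom (algebraMap D L) = β := Spec.map_injective (by
    rw [Spec.map_comp, hη, hβ, reassoc_of% hyK])
  have hηc : η.hom c = ρ X := Subtype.ext (by
    have := ConcreteCategory.congr_hom hηβ c
    change (η.hom c : L) = α X
    simpa [α, eQ] using this)
  have hyw : y (IsLocalRing.closedPoint D) = w₀ := j.injective (by rw [← Scheme.Hom.comp_apply, hy, hcl])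
  have h0 : (ι w₀ : PrimeSpectrum Q).asIdeal = (IsLocalRing.maximalIdeal D).comap η.hom := by
    rw [← hyw, ← Scheme.Hom.comp_apply, ← hη]
    rfl
  rw [h0, Ideal.mem_comap, hηc, hρP]
  simp [P, eQ]

/-- A quasi-compact monomorphism of finite type with the lifting property is an immersion. -/
theorem isImmersion_of_dvrLiftBoth {R : CommRingCat.{u}} [IsNoetherianRing R] {W : Scheme.{u}} (j : W ⟶ Spec R)
    [Mono j] [QuasiCompact j] [LocallyOfFiniteType j] (h : DvrLiftBoth j) : IsImmersion j := by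
  let π := j.fromNormalization
  let ι := j.toNormalization
  haveI : IsAffine j.normalization := isAffine_of_isAffineHom π
  have hfac : ι ≫ π = j := j.toNormalization_fromNormalization
  let B : Set j.normalization := closure (Set.range ι) \ Set.range ι
  have hB : IsClosed B := isClosed_closure.sdiff ι.isOpenEmbedding.isOpen_range
  let V : (Spec R).Opens := ⟨(π '' B)ᶜ, (π.isClosedMap _ hB).isOpen_compl⟩
  let eN := j.normalization.isoSpec
  obtain ⟨φ, hφ⟩ := Spec.map_surjective (eN.inv ≫ π)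
  haveI : CompactSpace W := QuasiCompact.compactSpace_of_compactSpace j
  have hrange : Set.range j ⊆ (V : Set (Spec R)) := by
    rintro _ ⟨w₀, rfl⟩ ⟨b, ⟨hb, hbn⟩, hbs⟩
    obtain ⟨ξ, hξ⟩ : ∃ ξ : W, ι ξ ⤳ b := by
      let 𝒰 := W.affineCover.finiteSubcover
      rw [show Set.range ι = ⋃ i, (𝒰.f i ≫ ι) '' Set.univ by
        ext z
        constructor
        · rintro ⟨w, rfl⟩
          obtain ⟨t, ht⟩ := 𝒰.covers w
          exact Set.mem_iUnion.2 ⟨𝒰.idx w, t, trivial, by rw [Scheme.Hom.comp_apply, ht]⟩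
        · intro hz
          obtain ⟨i, t, -, rfl⟩ := Set.mem_iUnion.1 hz
          exact ⟨𝒰.f i t, (Scheme.Hom.comp_apply _ _ _).symm⟩, closure_iUnion_of_finite] at hb
      obtain ⟨i, hi⟩ := Set.mem_iUnion.1 hb
      obtain ⟨t, -, ht⟩ := UCValLib.exists_specializes_of_mem_closure (𝒰.f i ≫ ι) isClosed_univ hi
      exact ⟨𝒰.f i t, by rwa [Scheme.Hom.comp_apply] at ht⟩
    have key := mem_range_of_dvrLiftBoth φ (ι ≫ eN.hom) j
      (by rw [hφ, Category.assoc, Iso.hom_inv_id_assoc, hfac]) h (eN.hom b) ξ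
      ((PrimeSpectrum.le_iff_specializes _ _).2 (by
        rw [Scheme.Hom.comp_apply]
        exact hξ.map eN.hom.continuous)) w₀ (by
        change (Spec.map φ) (eN.hom b) = j w₀
        rw [hφ, ← Scheme.Hom.comp_apply, Iso.hom_inv_id_assoc, hbs])
    rw [Scheme.Hom.comp_apply] at key
    exact hbn ⟨w₀, (eN.hom.homeomorph.injective key).symm⟩
  let j' := IsOpenImmersion.lift V.ι j (by rw [V.range_ι]; exact hrange)
  have hj' : j' ≫ V.ι = j := IsOpenImmersion.lift_fac _ _ _
  let Y' := π ⁻¹ᵁ V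
  let ι' := IsOpenImmersion.lift Y'.ι ι (by
    rw [Y'.range_ι]
    rintro _ ⟨w, rfl⟩
    change π (ι w) ∈ V
    rw [← Scheme.Hom.comp_apply, hfac]
    exact hrange ⟨w, rfl⟩)
  have hι' : ι' ≫ Y'.ι = ι := IsOpenImmersion.lift_fac _ _ _
  haveI : IsOpenImmersion (ι' ≫ Y'.ι) := hι'.symm ▸ inferInstance
  haveI : IsOpenImmersion ι' := IsOpenImmersion.of_comp ι' Y'.ι
  haveI : IsClosedImmersion ι' := IsClosedImmersion.of_isPreimmersion ι' (by
    have e : Set.range ι' = Y'.ι ⁻¹' closure (Set.range ι) := by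
      ext z
      constructor
      · rintro ⟨w, rfl⟩
        refine subset_closure ⟨w, ?_⟩
        rw [← Scheme.Hom.comp_apply, hι']
      · intro hz
        by_cases hz' : Y'.ι z ∈ Set.range ι
        · obtain ⟨w, hw⟩ := hz'
          exact ⟨w, Y'.ι.isOpenEmbedding.injective (by rw [← Scheme.Hom.comp_apply, hι', hw])⟩
        · exact absurd ⟨Y'.ι z, ⟨hz, hz'⟩, rfl⟩ (z.2 : π z.1 ∈ V)
    rw [e]
    exact isClosed_closure.preimage Y'.ι.continuous)
  have e : ι' ≫ (π ∣_ V) = j' := by
    rw [← cancel_mono V.ι, Category.assoc, morphismRestrict_ι, reassoc_of% hι', hfac, hj']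
  haveI : LocallyOfFiniteType (j' ≫ V.ι) := hj'.symm ▸ inferInstance
  haveI : LocallyOfFiniteType j' := locallyOfFiniteType_of_comp j' V.ι
  haveI : UniversallyClosed j' := e ▸ inferInstance
  haveI : IsSeparated j' := e ▸ inferInstance
  haveI : IsProper j' := {}
  haveI : Mono j' := mono_of_mono_fac hj'
  haveI : IsClosedImmersion j' := (IsClosedImmersion.iff_isProper_and_mono j').2 ⟨inferInstance, inferInstance⟩
  rw [← hj']
  infer_instance

end MonoQcLib
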