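import Mathlib.AlgebraicGeometry.Morphisms.FlatMono
import Mathlib.AlgebraicGeometry.Morphisms.UniversallyInjective
import Mathlib.AlgebraicGeometry.Morphisms.FiniteType
import Mathlib.AlgebraicGeometry.Noetherian
import Mathlib.RingTheory.Spectrum.Prime.Noetherian
import Mathlib.RingTheory.Spectrum.Prime.RingHom

/-!
# Monomorphisms locally of finite type whose image has open dense lifts
-/

set_option autoImplicit false
set_option backward.isDefEq.respectTransparency false
set_option backward.isDefEq.respectTransparency.types false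

universe u

open CategoryTheory CategoryTheory.Limits AlgebraicGeometry Topology

namespace MonoQcLib

/-- Sections defined on the points of the image. -/
theorem exists_lift_fromSpecResidueField {W U : Scheme.{u}} (j : W ⟶ U) [Mono j] {K : Type u} [Field K]
    (g : Spec (CommRingCat.of K) ⟶ U) (h : g (IsLocalRing.closedPoint K) ∈ Set.range j) :
    ∃ σ : Spec (CommRingCat.of K) ⟶ W, σ ≫ j = g := by
  obtain ⟨w, hw⟩ := h
  let π := pullback.snd j g
  haveI : Surjective π := ⟨fun x => by
    obtain ⟨z, -, hz⟩ := Scheme.Pullback.exists_preimage_pullback (f := j) (g := g) w x (by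
      rw [hw, show x = IsLocalRing.closedPoint K from Subsingleton.elim (α := PrimeSpectrum K) _ _])
    exact ⟨z, hz⟩⟩
  haveI : Subsingleton (pullback j g : Scheme.{u}) :=
    ⟨fun a b => π.injective (Subsingleton.elim (α := PrimeSpectrum K) _ _)⟩
  haveI : QuasiCompact π := ⟨fun O _ _ => (Set.toFinite _).isCompact⟩
  haveI : Flat π := inferInstance
  haveI := Flat.isIso_of_surjective_of_mono π
  exact ⟨inv π ≫ pullback.fst j g, by rw [Category.assoc, pullback.condition, IsIso.inv_hom_id_assoc]⟩

/-- The hypothesis: over every integral affine scheme on which lifts exist densely, one exists on an open set. -/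
def DenseLift {W U : Scheme.{u}} (j : W ⟶ U) : Prop :=
  ∀ (A : Type u) [CommRing A] [IsDomain A] (a : Spec (CommRingCat.of A) ⟶ U) (D : Set ↥(Spec (CommRingCat.of A))),
    Dense D →
    (∀ p ∈ D, ∃ σ : Spec ((Spec (CommRingCat.of A)).residueField p) ⟶ W,
      σ ≫ j = (Spec (CommRingCat.of A)).fromSpecResidueField p ≫ a) →
    ∃ (V : (Spec (CommRingCat.of A)).Opens), (V : Set ↥(Spec (CommRingCat.of A))).Nonempty ∧
      ∃ σ : (V : Scheme.{u}) ⟶ W, σ ≫ j = V.ι ≫ a

/-- Such a monomorphism has quasi-compact preimage over a Noetherian affine scheme. -/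
theorem isCompact_univ_of_denseLift (R : CommRingCat.{u}) [IsNoetherianRing R] {W : Scheme.{u}} (j : W ⟶ Spec R)
    [Mono j] (h : DenseLift j) : IsCompact (Set.univ : Set W) := by
  suffices H : ∀ I : Ideal R, IsCompact (j ⁻¹' (PrimeSpectrum.zeroLocus (I : Set R))) by
    simpa using H ⊥
  intro I
  induction I using IsNoetherian.induction with
  | hgt I ih =>
    change ∀ J : Ideal R, J > I → _ at ih
    have hI0 : ∃ I' : Ideal R, I' = I := ⟨I, rfl⟩
    obtain ⟨I, rfl⟩ := hI0
    rcases eq_or_ne I ⊤ with rfl | hI
    · simp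
    by_cases hp : Ideal.IsPrime I
    swap
    · -- split
      obtain ⟨a, ha, b, hb, hab⟩ : ∃ a ∉ I, ∃ b ∉ I, a * b ∈ I := by
        by_contra hcon
        push Not at hcon
        exact hp ⟨hI, fun {a b} hab => (em (a ∈ I)).imp id fun ha => by_contra fun hb => hcon a ha b hb hab⟩
      have h1 : I < I ⊔ Ideal.span {a} := left_lt_sup.2 fun hle => ha (hle (Ideal.mem_span_singleton_self a))
      have h2 : I < I ⊔ Ideal.span {b} := left_lt_sup.2 fun hle => hb (hle (Ideal.mem_span_singleton_self b))
      have e : PrimeSpectrum.zeroLocus (I : Set R) =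
          PrimeSpectrum.zeroLocus ((I ⊔ Ideal.span {a} : Ideal R) : Set R) ∪
            PrimeSpectrum.zeroLocus ((I ⊔ Ideal.span {b} : Ideal R) : Set R) := by
        ext q
        simp only [PrimeSpectrum.mem_zeroLocus, SetLike.coe_subset_coe, Set.mem_union, sup_le_iff,
          Ideal.span_singleton_le_iff_mem]
        constructor
        · exact fun hq => (q.isPrime.mem_or_mem (hq hab)).imp (fun h => ⟨hq, h⟩) fun h => ⟨hq, h⟩
        · rintro (h | h) <;> exact h.1
      rw [e, Set.preimage_union]
      exact (ih _ h1).union (ih _ h2)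
    haveI := hp
    let a : Spec (CommRingCat.of (R ⧸ I)) ⟶ Spec R := Spec.map (CommRingCat.ofHom (Ideal.Quotient.mk I))
    have hrange : Set.range a = PrimeSpectrum.zeroLocus (I : Set R) :=
      (range_comap_of_surjective _ _ Ideal.Quotient.mk_surjective).trans (by rw [Ideal.mk_ker])
    let D : Set ↥(Spec (CommRingCat.of (R ⧸ I))) := a ⁻¹' Set.range j
    by_cases hD : Dense D
    · obtain ⟨V, hV, σ, hσ⟩ := h (R ⧸ I) a D hD fun p hp => exists_lift_fromSpecResidueField j _ (by
        obtain ⟨w, hw⟩ := hp
        exact ⟨w, hw.trans (congrArg a (Scheme.fromSpecResidueField_apply p _)).symm⟩)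
      -- the closed complement of the open set
      have hcl : IsClosed (a '' (V : Set ↥(Spec (CommRingCat.of (R ⧸ I))))ᶜ) :=
        (PrimeSpectrum.isClosedEmbedding_comap_of_surjective _ _ Ideal.Quotient.mk_surjective).isClosedMap _
          V.2.isClosed_compl
      obtain ⟨J, hJ⟩ := (PrimeSpectrum.isClosed_iff_zeroLocus_ideal _).1 hcl
      have hIJ : I < I ⊔ J := by
        refine left_lt_sup.2 fun hle => ?_
        obtain ⟨v, hv⟩ := hV
        have hav : a v ∈ PrimeSpectrum.zeroLocus (I : Set R) := hrange ▸ ⟨v, rfl⟩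
        obtain ⟨v', hv', e⟩ := hJ.superset (PrimeSpectrum.zeroLocus_anti_mono hle hav)
        exact hv' (((PrimeSpectrum.isClosedEmbedding_comap_of_surjective _ _
          Ideal.Quotient.mk_surjective).injective e).symm ▸ hv)
      have hVc : IsCompact (Set.univ : Set (V : Scheme.{u})) := by
        haveI : IsNoetherianRing (R ⧸ I) := inferInstance
        have hVc' : IsCompact (V : Set ↥(Spec (CommRingCat.of (R ⧸ I)))) :=
          TopologicalSpace.NoetherianSpace.isCompact (α := PrimeSpectrum (R ⧸ I)) _
        exact @isCompact_univ _ _ (isCompact_iff_compactSpace.1 hVc' : CompactSpace ↥(V : Scheme.{u}))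
      have e : j ⁻¹' PrimeSpectrum.zeroLocus (I : Set R) =
          σ '' Set.univ ∪ j ⁻¹' PrimeSpectrum.zeroLocus ((I ⊔ J : Ideal R) : Set R) := by
        ext w
        constructor
        · intro hw
          obtain ⟨v, hv⟩ := hrange.superset hw
          by_cases hvV : v ∈ V
          · refine Or.inl ⟨⟨v, hvV⟩, trivial, j.injective ?_⟩
            rw [← Scheme.Hom.comp_apply, hσ]
            exact hv
          · refine Or.inr ?_
            have h3 : j w ∈ PrimeSpectrum.zeroLocus (J : Set R) := hJ.subset ⟨v, hvV, hv⟩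
            refine Set.mem_preimage.2 ?_
            exact PrimeSpectrum.zeroLocus_sup I J ▸ ⟨hw, h3⟩
        · rintro (⟨v, -, rfl⟩ | hw)
          · refine Set.mem_preimage.2 ?_
            rw [← Scheme.Hom.comp_apply, hσ, ← hrange]
            exact ⟨V.ι v, rfl⟩
          · exact PrimeSpectrum.zeroLocus_anti_mono (show (I : Set R) ⊆ ↑(I ⊔ J) from le_sup_left (a := I)) hw
      rw [e]
      exact (hVc.image σ.continuous).union (ih _ hIJ)
    · -- the image is not dense
      have hcl : IsClosed (a '' closure D) :=
        (PrimeSpectrum.isClosedEmbedding_comap_of_surjective _ _ Ideal.Quotient.mk_surjective).isClosedMap _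
          isClosed_closure
      obtain ⟨J, hJ⟩ := (PrimeSpectrum.isClosed_iff_zeroLocus_ideal _).1 hcl
      have hIJ : I < I ⊔ J := by
        refine left_lt_sup.2 fun hle => hD fun v => ?_
        have hav : a v ∈ PrimeSpectrum.zeroLocus (I : Set R) := hrange ▸ ⟨v, rfl⟩
        obtain ⟨v', hv', e⟩ := hJ.superset (PrimeSpectrum.zeroLocus_anti_mono hle hav)
        exact ((PrimeSpectrum.isClosedEmbedding_comap_of_surjective _ _
          Ideal.Quotient.mk_surjective).injective e) ▸ hv'
      have e : j ⁻¹' PrimeSpectrum.zeroLocus (I : Set R) =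
          j ⁻¹' PrimeSpectrum.zeroLocus ((I ⊔ J : Ideal R) : Set R) := by
        refine subset_antisymm (fun w hw => ?_) fun w hw =>
          PrimeSpectrum.zeroLocus_anti_mono (show (I : Set R) ⊆ ↑(I ⊔ J) from le_sup_left (a := I)) hw
        obtain ⟨v, hv⟩ := hrange.superset hw
        have h3 : j w ∈ PrimeSpectrum.zeroLocus (J : Set R) :=
          hJ.subset ⟨v, subset_closure ⟨w, hv.symm⟩, hv⟩
        refine Set.mem_preimage.2 ?_
        exact PrimeSpectrum.zeroLocus_sup I J ▸ ⟨hw, h3⟩
      rw [e]
      exact ih _ hIJ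

end MonoQcLib
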