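import Groth.Agent.MonoQcLib.Qc
import Groth.Agent.MonoQcLib.Imm
import Groth.Agent.AlgSpRegLib.ImmFpqc
import Groth.Agent.AlgStLib.Classes

/-!
# Quasi-compact immersions of stacks from lifts
-/

set_option autoImplicit false
set_option backward.isDefEq.respectTransparency false
set_option backward.isDefEq.respectTransparency.types false

universe u

open CategoryTheory CategoryTheory.Limits AlgebraicGeometry Opposite AlgSp FibCat FibLib AlgSpLib AlgStLib Topology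

noncomputable section

namespace MonoQcLib

variable {S : Scheme.{u}} {𝒳 𝒴 : AlgSt.Cat S}

/-- Lifts over discrete valuation rings from lifts at both points. -/
def StackDvrLiftBoth (f : 𝒴 ⥤ᵇ 𝒳) : Prop :=
  ∀ (A : Type u) [CommRing A] [IsDomain A] [IsDiscreteValuationRing A] (K : Type u) [Field K] [Algebra A K]
      [IsFractionRing A K] (sA : Spec (CommRingCat.of A) ⟶ S) (a : FibCat.overCat (Over.mk sA) ⥤ᵇ 𝒳),
      (∃ yK : FibCat.overCat (Over.mk (Spec.map (CommRingCat.ofHom (algebraMap A K)) ≫ sA)) ⥤ᵇ 𝒴,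
          Nonempty (BasedFunctor.comp yK f ≅ BasedFunctor.comp (AlgSt.overMap (Over.homMk (Spec.map (CommRingCat.ofHom (algebraMap A K))) rfl : Over.mk ((Spec.map (CommRingCat.ofHom (algebraMap A K))) ≫ sA) ⟶ Over.mk sA)) a)) →
      (∃ yk : FibCat.overCat (Over.mk (Spec.map (CommRingCat.ofHom (IsLocalRing.residue A)) ≫ sA)) ⥤ᵇ 𝒴,
          Nonempty (BasedFunctor.comp yk f ≅ BasedFunctor.comp (AlgSt.overMap (Over.homMk (Spec.map (CommRingCat.ofHom (IsLocalRing.residue A))) rfl : Over.mk ((Spec.map (CommRingCat.ofHom (IsLocalRing.residue A))) ≫ sA) ⟶ Over.mk sA)) a)) →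
      ∃ y : FibCat.overCat (Over.mk sA) ⥤ᵇ 𝒴, Nonempty (BasedFunctor.comp y f ≅ a)

theorem RepChart.exists_lift_restrict [IsFibGrpd 𝒳.p] [IsFibGrpd 𝒴.p] {f : 𝒴 ⥤ᵇ 𝒳} {U : Over S}
    {x : overCat U ⥤ᵇ 𝒳} (C : RepChart f x) {T : Scheme.{u}} (sT : T ⟶ S) (t : Over.mk sT ⟶ U) {T' : Scheme.{u}}
    (g : T' ⟶ T) (σ : T' ⟶ C.W.left) (hσ : σ ≫ C.j.left = g ≫ t.left) :
    ∃ y : overCat (Over.mk (g ≫ sT)) ⥤ᵇ 𝒴, Nonempty (BasedFunctor.comp y f ≅
      BasedFunctor.comp (AlgSt.overMap (Over.homMk g rfl : Over.mk (g ≫ sT) ⟶ Over.mk sT))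
        (BasedFunctor.comp (AlgSt.overMap t) x)) := by
  let ι : Over.mk (g ≫ sT) ⟶ Over.mk sT := Over.homMk g rfl
  let σo : Over.mk (g ≫ sT) ⟶ C.W := Over.homMk σ (by
    change σ ≫ C.W.hom = g ≫ sT
    rw [← Over.w C.j, show sT = t.left ≫ U.hom from (Over.w t).symm]
    exact (Category.assoc _ _ _).symm.trans ((congrArg (· ≫ U.hom) hσ).trans (Category.assoc _ _ _)))
  have hσo : σo ≫ C.j = ι ≫ t := Over.OverMorphism.ext hσ
  obtain ⟨y, ⟨α⟩⟩ := C.exists_lift_of_hom σo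
  exact ⟨y, ⟨α ≪≫ eqToIso (by rw [hσo, AlgStLib.overMap_comp]; rfl)⟩⟩

theorem dvrLiftBoth_restrict [IsFibGrpd 𝒳.p] [IsFibGrpd 𝒴.p] {f : 𝒴 ⥤ᵇ 𝒳} (hb : StackDvrLiftBoth f)
    {U : Over S} {x : overCat U ⥤ᵇ 𝒳} (C : RepChart f x) (O : U.left.Opens) (hO : IsAffineOpen O) :
    DvrLiftBoth ((C.j.left ∣_ O) ≫ hO.isoSpec.hom) := by
  intro A _ _ _ K _ _ _ a hK hk
  let t₀ : Spec (CommRingCat.of A) ⟶ U.left := a ≫ hO.isoSpec.inv ≫ O.ι
  let sA : Spec (CommRingCat.of A) ⟶ S := t₀ ≫ U.hom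
  let t : Over.mk sA ⟶ U := Over.homMk t₀ rfl
  have key : ∀ {T' : Scheme.{u}} (g : T' ⟶ Spec (CommRingCat.of A))
      (σ : T' ⟶ (C.j.left ⁻¹ᵁ O : Scheme.{u})), σ ≫ (C.j.left ∣_ O) ≫ hO.isoSpec.hom = g ≫ a →
      (σ ≫ (C.j.left ⁻¹ᵁ O).ι) ≫ C.j.left = g ≫ t₀ := fun g σ hσ => by
    rw [Category.assoc, ← morphismRestrict_ι, ← Category.assoc,
      show σ ≫ (C.j.left ∣_ O) = (σ ≫ (C.j.left ∣_ O) ≫ hO.isoSpec.hom) ≫ hO.isoSpec.inv by simp, hσ]
    simp [t₀]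
  obtain ⟨σ, hσ⟩ := hK
  obtain ⟨σk, hσk⟩ := hk
  obtain ⟨y, ⟨α⟩⟩ := hb A K sA (BasedFunctor.comp (AlgSt.overMap t) x)
    (C.exists_lift_restrict sA t _ _ (key _ σ hσ)) (C.exists_lift_restrict sA t _ _ (key _ σk hσk))
  obtain ⟨τ, hτ⟩ := C.exists_hom_of_lift t y α
  have hτ' : τ.left ≫ C.j.left = t₀ := congrArg CommaMorphism.left hτ
  have sq := isPullback_morphismRestrict C.j.left O
  have w : τ.left ≫ C.j.left = (a ≫ hO.isoSpec.inv) ≫ O.ι := by simp [hτ', t₀]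
  exact ⟨sq.flip.lift τ.left (a ≫ hO.isoSpec.inv) w, by
    simp only [IsPullback.lift_snd_assoc, Category.assoc, Iso.inv_hom_id, Category.comp_id]⟩

theorem isImmersion_left [IsFibGrpd 𝒳.p] [IsFibGrpd 𝒴.p] {f : 𝒴 ⥤ᵇ 𝒳} (hb : StackDvrLiftBoth f)
    {U : Over S} {x : overCat U ⥤ᵇ 𝒳} (C : RepChart f x) [IsLocallyNoetherian U.left] [QuasiCompact C.j.left] :
    IsImmersion C.j.left := by
  haveI := C.mono
  haveI := C.lfp
  rw [IsZariskiLocalAtTarget.iff_of_iSup_eq_top (P := @IsImmersion)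
    (U := fun O : U.left.affineOpens => O.1) (iSup_affineOpens_eq_top U.left)]
  rintro ⟨O, hO⟩
  haveI : IsNoetherianRing Γ(U.left, O) := IsLocallyNoetherian.component_noetherian ⟨O, hO⟩
  haveI : Mono (C.j.left ∣_ O) := (MorphismProperty.monomorphisms Scheme.{u}).of_isPullback
    (isPullback_morphismRestrict C.j.left O).flip (MorphismProperty.monomorphisms.infer_property C.j.left)
  haveI : QuasiCompact (C.j.left ∣_ O) := IsZariskiLocalAtTarget.restrict ‹_› O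
  haveI : LocallyOfFiniteType (C.j.left ∣_ O) := IsZariskiLocalAtTarget.restrict (inferInstance : LocallyOfFiniteType C.j.left) O
  haveI := isImmersion_of_dvrLiftBoth ((C.j.left ∣_ O) ≫ hO.isoSpec.hom) (dvrLiftBoth_restrict hb C O hO)
  exact IsImmersion.of_comp (C.j.left ∣_ O) hO.isoSpec.hom

theorem isQcImmersion_of_lifts (h𝒳 : AlgSt.IsAlgStack Scheme.fppfPrecoverage 𝒳)
    (h𝒴 : AlgSt.IsAlgStack Scheme.fppfPrecoverage 𝒴)
    (hnoeth : AlgSt.SmoothLocally (fun X => IsLocallyNoetherian X) 𝒳) {f : 𝒴 ⥤ᵇ 𝒳}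
    (hrep : AlgSt.RepByAlgSp1 f) (hlfp : AlgSt.RepByAlgSpWith (LocP @LocallyOfFinitePresentation) f)
    (ha : AlgSt.IsMono f) (hb : StackDvrLiftBoth f) (hc : StackDenseLift f) :
    AlgSt.RepByAlgSpWith (RepWith (@IsImmersion ⊓ @QuasiCompact)) f := by
  haveI := isFibGrpd_of_isAlgStack h𝒳
  haveI := isFibGrpd_of_isAlgStack h𝒴
  obtain ⟨U, x, hx, hxs⟩ := h𝒳.atlas
  haveI := hnoeth U x hx
  haveI := AlgStLib.isFibGrpd_overCat U
  obtain ⟨C⟩ := exists_repChart ha hlfp x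
  haveI : QuasiCompact C.j.left :=
    quasiCompact_iff_forall_isAffineOpen.2 fun O hO => compactSpace_preimage hc C O hO
  haveI := isImmersion_left hb C
  let z := BasedFunctor.comp (AlgSt.toOverCat U) x
  haveI : IsFibGrpd (AlgSt.ofSch U).p := Stk.isFibGrpd_ofPsh _
  have hgood : Good (RepWith (@IsImmersion ⊓ @QuasiCompact) : MorphismProperty (Sp S)) := good_repWith _
  refine repByAlgSpWith_of_fppf_cover hgood.bc
    (isLocalOnBase_fppf_of_fpqc (AlgSpRegLib.isLocalOnBase_fpqc_repWith_qcImmersion S)) hrep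
    (z := z) (repByAlgSpWith_toOverCat_comp (repByAlgSpWith_mono (fun _ _ _ _ _ h => locP_flat_of_smooth h) hx))
    (repByAlgSpWith_toOverCat_comp (repByAlgSpWith_mono (fun _ _ _ _ _ h => locP_lfp_of_smooth h) hx))
    (repByAlgSpWith_toOverCat_comp hxs) ?_
  obtain ⟨e, he, ⟨β⟩⟩ := C.along
  haveI : IsFibGrpd (fp z f).p := isFibGrpd_fp
  haveI : IsFibGrpd (AlgSt.ofSp C.H).p := Stk.isFibGrpd_ofPsh _
  have hq : RepWith (@IsImmersion ⊓ @QuasiCompact) C.a := by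
    have h1 : RepWith (@IsImmersion ⊓ @QuasiCompact) ((yon S).map C.j) :=
      (repWith_yon_map_iff (P := (@IsImmersion ⊓ @QuasiCompact : MorphismProperty Scheme.{u})) C.j).2
        ⟨inferInstance, inferInstance⟩
    have := hgood.bc.precomp_iso C.i.symm _ (IsAlgSpace.yon_obj C.W) (IsAlgSpace.yon_obj U) h1
    rwa [show C.i.symm.hom ≫ (yon S).map C.j = C.a by rw [← C.hi]; simp] at this
  refine (repByAlgSpWith_square_iff (f := FibCat.fpFst z f) (f' := AlgSt.ofSpMap C.a) (a := e)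
    (b := BasedFunctor.id _) he (isEquivOver_id _) β.symm _).mpr ?_
  exact repByAlgSpWith_ofSpMap C.hH (IsAlgSpace.yon_obj U) _ fun Z ξ =>
    hgood.bc C.hH (IsAlgSpace.yon_obj U)
      (isAlgSpace_pullback C.hH (IsAlgSpace.yon_obj Z) (IsAlgSpace.yon_obj U) _ ξ)
      (IsAlgSpace.yon_obj Z) _ ξ _ _ (IsPullback.of_hasPullback _ ξ) hq

end MonoQcLib
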